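import Cfsg.Agent.TAB.F22.FxA_m3
import Cfsg.Agent.TID.Suz.Fam
import Cfsg.Agent.Prune
set_option linter.all false
prune_inst 0x7f00000000000000000000000000000000000000000000000000000000000000000000000000000000000000000000000000000000000000000000000000000000000000000000000000000000000000003fffffffffffffffffffffffffffbeffbdffffffff
open scoped Cfsg.Agent.FastGrp

/-!
# The character table of the Suzuki group (helper31, TAB)

* `Sz.td`, `Sz.tab` : the types and the table;
* `Suz.van`, `Suz.odd`, `Suz.sig`, `Suz.deg` : the consequences.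
-/

set_option autoImplicit false
set_option maxRecDepth 100000

namespace Cfsg.Agent.TAB.Sz

open Cfsg Cfsg.Spor Cfsg.Agent.TAB.Eng Cfsg.Agent.TAB.Use Cfsg.Agent.H300.Cls Cfsg.Agent.H714.S8.SuzFam
open Cfsg.Agent.TID.Suz Cfsg.Agent.ODD.Red
open Cfsg.Agent.SporadicRecognition.SuzOrder (card_Suz)

/-- the exchange of the first two numbers -/
def sw (i : ℕ) : ℕ := if i = 0 then 1 else if i = 1 then 0 else i

theorem sw_sw (i : ℕ) : sw (sw i) = i := by
  rcases i with _ | _ | i <;> rfl

theorem sw_lt {i : ℕ} (h : i < 37) : sw i < 37 := by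
  unfold sw
  split_ifs <;> omega

theorem fam_cop (g : Suz) (k : ℕ) (hk : Nat.Coprime k (orderOf g)) : fam (g ^ k) = fam g := by
  have := finite_Suz
  have h1 : v53.getD (fam (g ^ k)) 0 = v53.getD (fam g) 0 := gen_gal g53 hk rfl rfl
  have h2 : ∀ i < 37, ∀ j < 37, v53.getD i 0 = v53.getD j 0 → i = j := by decide +kernel
  exact h2 _ (fam_lt _) _ (fam_lt _) h1

theorem ord_of_fam {g h : Suz} (e : fam g = fam h) : orderOf g = orderOf h := by
  obtain ⟨σ, rfl, -⟩ := fam_gal g h e
  exact (σ.orderOf_eq g).symm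

theorem fam_pow_iff (g : Suz) {p : ℕ} (hp : p.Prime) : fam (g ^ p) = fam g ↔ ¬ p ∣ orderOf g := by
  have := finite_Suz
  refine ⟨fun h h1 => ?_, fun h => fam_cop g p ((Nat.Prime.coprime_iff_not_dvd hp).2 h)⟩
  have h2 := ord_of_fam h
  rw [orderOf_pow' _ hp.ne_zero, Nat.gcd_eq_right h1] at h2
  exact (Nat.div_lt_self (orderOf_pos g) hp.one_lt).ne h2

theorem ord_mul {g : Suz} {p : ℕ} (hp : p.Prime) (h : p ∣ orderOf g) : orderOf g = p * orderOf (g ^ p) := by
  rw [orderOf_pow' _ hp.ne_zero, Nat.gcd_eq_right h, Nat.mul_div_cancel' h]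

theorem fam_ord (g : Suz) : orderOf g = dat.ord (sw (fam g)) := by
  have := finite_Suz
  induction h : orderOf g using Nat.strong_induction_on generalizing g with
  | _ n ih =>
    subst h
    by_cases h2 : 2 ∣ orderOf g
    · have h3 := ord_mul Nat.prime_two h2
      have h4 := ih _ (by have := orderOf_pos g; omega) (g ^ 2) rfl
      have h5 := (fam_pow_iff g Nat.prime_two).not_left.2 h2
      rw [fam_sq] at h4 h5
      have h6 : ∀ i < 37, P2.getD i 0 ≠ i → 2 * dat.ord (sw (P2.getD i 0)) = dat.ord (sw i) := by decide +kernel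
      rw [h3, h4, h6 _ (fam_lt g) h5]
    by_cases h3 : 3 ∣ orderOf g
    · have h3' := ord_mul Nat.prime_three h3
      have h4 := ih _ (by have := orderOf_pos g; omega) (g ^ 3) rfl
      have h5 := (fam_pow_iff g Nat.prime_three).not_left.2 h3
      have h5' := (fam_pow_iff g Nat.prime_two).2 h2
      rw [fam_cu] at h4 h5
      have h6 : ∀ i < 37, P3.getD i 0 ≠ i → 3 * dat.ord (sw (P3.getD i 0)) = dat.ord (sw i) := by decide +kernel
      rw [h3', h4, h6 _ (fam_lt g) h5]
    have h4 := (fam_pow_iff g Nat.prime_two).2 h2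
    have h5 := (fam_pow_iff g Nat.prime_three).2 h3
    rw [fam_sq] at h4
    rw [fam_cu] at h5
    have h6 : ∀ i < 37, P2.getD i 0 = i → P3.getD i 0 = i →
        i = 1 ∨ (i = 14 ∨ i = 34) ∨ i = 9 ∨ i = 16 ∨ i = 29 := by decide +kernel
    have h7 : orderOf g ∣ Nat.card (Subgroup.centralizer ({g} : Set Suz)) :=
      Subgroup.orderOf_dvd_natCard _ (Subgroup.mem_centralizer_singleton_iff.2 rfl)
    have h8 : orderOf g * SZ.getD (fam g) 0 ∣ 2 * 448345497600 := by
      refine (Nat.mul_dvd_mul_right h7 _).trans ?_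
      rcases cent_mul g with h | h <;> rw [h]
      exact Dvd.intro_left _ rfl
    rcases h6 _ (fam_lt g) h4 h5 with h | h | h
    · rw [h, fam_eq_one.1 h, orderOf_one]
      rfl
    · have h9 := last_eq g
      have h10 : ∀ j < 37, (SL.getD j []).getD 1 0 = 1782 → j = 1 := by decide +kernel
      have h11 : g ^ 5 = 1 := fam_eq_one.1 (h10 _ (fam_lt _) (by rw [← h9]; rcases h with h | h <;> rw [h] <;> rfl))
      have := Fact.mk Nat.prime_five
      rw [orderOf_eq_prime h11 fun h12 => by rw [fam_eq_one.2 h12] at h; omega]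
      rcases h with h | h <;> rw [h] <;> rfl
    · have h9 : orderOf g ≠ 1 := fun h12 => by rw [fam_eq_one.2 (orderOf_eq_one_iff.1 h12)] at h; omega
      have h10 : ∀ i ∈ [9, 16, 29], ∀ o < 169, o * SZ.getD i 0 ∣ 2 * 448345497600 → ¬ 2 ∣ o → ¬ 3 ∣ o → o ≠ 1 →
          o = dat.ord (sw i) := by decide +kernel
      refine h10 _ (by simpa using h) _ ?_ h8 h2 h3 h9
      have h11 := Nat.le_of_dvd (by norm_num) h8
      have h12 : ∀ i ∈ [9, 16, 29], 5337446400 ≤ SZ.getD i 0 := by decide +kernel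
      have h13 := Nat.mul_le_mul_left (orderOf g) (h12 _ (by simpa using h))
      omega

theorem fam_pp (g : Suz) (p : ℕ) (hp : p.Prime) (h : p ∣ orderOf g) :
    sw (fam (g ^ p)) = dat.pwf (sw (fam g)) p := by
  have := finite_Suz
  by_cases h2 : p = 2
  · subst h2
    have h1 : ∀ i < 37, sw (P2.getD i 0) = dat.pwf (sw i) 2 := by decide +kernel
    rw [fam_sq, h1 _ (fam_lt g)]
  by_cases h3 : p = 3
  · subst h3
    have h1 : ∀ i < 37, sw (P3.getD i 0) = dat.pwf (sw i) 3 := by decide +kernel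
    rw [fam_cu, h1 _ (fam_lt g)]
  have h4 := ord_mul hp h
  rw [fam_ord, fam_ord] at h4
  have h5 : (v1.getD (fam (g ^ p)) 0 - v1.getD (fam g) 0) % p = 0 := gen_cong' g1 hp rfl rfl
  have h6 : ∀ i < 37, dat.ord (sw i) < 25 := by decide +kernel
  have h7 : p < 25 := (Nat.le_of_dvd (orderOf_pos g) h).trans_lt (by rw [fam_ord]; exact h6 _ (fam_lt g))
  have h8 : ∀ p < 25, p.Prime → p ≠ 2 → p ≠ 3 → p ∈ [5, 7, 11, 13, 17, 19, 23] := by
    intro p hp
    interval_cases p <;> decide
  have h9 : ∀ p ∈ [5, 7, 11, 13, 17, 19, 23], ∀ i < 37, ∀ j < 37, dat.ord (sw i) = p * dat.ord (sw j) →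
      (v1.getD j 0 - v1.getD i 0) % (p : ℕ) = 0 → sw j = dat.pwf (sw i) p := by decide +kernel
  exact h9 p (h8 p h7 hp h2 h3) _ (fam_lt g) _ (fam_lt _) h4 h5

/-- **the types** -/
noncomputable def td : TD Suz dat :=
  haveI := finite_Suz
  tdOf dat div_chk (fun g => sw (fam g)) (fun g => sw_lt (fam_lt g)) (fun g h => by rw [fam_cj]) fam_ord
    (fun g k hk => by rw [fam_cop g k hk]) fam_pp

theorem td_ty (g : Suz) : td.ty g = sw (fam g) := rfl

theorem mass : td.Mass := by
  refine ⟨card_Suz, fun i hi => ?_⟩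
  have h1 : ∀ i < 37, dat.cnt i = SZ.getD (sw i) 0 := by decide +kernel
  rw [h1 i hi, ← fam_ncard, ← Nat.card_coe_set_eq]
  refine Nat.card_congr (Equiv.subtypeEquivRight fun g => ?_)
  rw [td_ty]
  exact ⟨fun h => show fam g = sw i by rw [← h, sw_sw], fun h => by rw [show fam g = sw i from h, sw_sw]⟩

theorem hom : Hom td := by
  intro y y' h
  obtain ⟨σ, h1, h2⟩ := fam_gal y y' (by rw [← sw_sw (fam y), ← sw_sw (fam y')]; exact congrArg sw h)
  exact ⟨σ, h1, fun g => congrArg sw (h2 g)⟩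

theorem virt_of_gc {v w : List ℤ} (h : GC fam v) (e : ∀ i < 37, nth w (sw i) = v.getD i 0) : Virt td (nth w) := by
  have h1 : (fun g => ((nth w (td.ty g) : ℤ) : ℂ)) = tv fam v := funext fun g => by
    rw [td_ty, e _ (fam_lt g), tv]
  rw [Virt, h1]
  exact h

theorem virt_seeds : ∀ v ∈ seeds, Virt td (nth v) :=
  List.forall_mem_cons.2 ⟨virt_of_gc g2 (by decide +kernel), List.forall_mem_cons.2
    ⟨virt_of_gc g1 (by decide +kernel), List.forall_mem_cons.2 ⟨virt_of_gc g0 (by decide +kernel),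
      List.forall_mem_nil _⟩⟩⟩

/-- **the table** -/
theorem tab : Tab td (Sm2.mkRows rowA rowB) :=
  haveI := finite_Suz
  tab_of_rows2 mass (by rw [td_ty, fam_one]; rfl) (slp mass rfl hom ops virt_seeds ix ops_chk) rows_chk

theorem inh : Inh td := inh_of_mass mass (by decide +kernel)

end Cfsg.Agent.TAB.Sz

namespace Cfsg.Agent.TAB.Suz

open Cfsg Cfsg.Agent.TAB.Eng Cfsg.Agent.TAB.Use Cfsg.Agent.TAB.Sz Cfsg.Agent.H714.S8.SuzFam Cfsg.Agent.ODD.Red

theorem van : VAN.Van3 Spor.Suz :=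
  haveI := finite_Suz
  tab.van3 inh SporadicRecognition.SuzOrder.card_Suz [(2, 13), (3, 7), (5, 2), (7, 1), (11, 1), (13, 1)]
    (by decide +kernel) 1 9 16 (by decide +kernel)

theorem deg : DegList Spor.Suz [1, 143, 364, 780, 1001, 3432, 5940, 10725, 12012, 14300, 15795, 18954, 25025, 40040,
    54054, 64064, 66560, 75075, 79872, 88452, 100100, 133056, 146432, 163800, 168960, 189540, 193050, 197120, 208494,
    243243, 248832, 5005, 5005, 15015, 15015, 25025, 25025, 50050, 50050, 64350, 64350, 93555, 93555] := by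
  refine Eq.subst (motive := DegList Spor.Suz) ?_ tab.degList
  decide +kernel

theorem odd : AllRat Spor.Suz := by
  have := finite_Suz
  obtain ⟨χ, hE, hR⟩ := tab
  intro ψ hψ τ hτ
  obtain ⟨j, hj, rfl⟩ := hE.all ψ hψ
  have hr : ([(35, 1), (36, 1)], rowB.getD 2 []) ∈ (Sm2.mkRows rowA rowB).rel := by decide +kernel
  by_cases h1 : j = 35
  · subst h1
    exact pair_fix2 hE hR inh hr hj (k := 36) (by decide +kernel) (by decide) (Or.inl rfl) (t := 21) (m := 9)
      (by decide) (by decide) rfl (a := 0) (b := -1) rfl (by decide +kernel) (by decide) hτ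
  by_cases h2 : j = 36
  · subst h2
    exact pair_fix2 hE hR inh hr hj (k := 35) (by decide +kernel) (by decide) (Or.inr rfl) (t := 21) (m := 9)
      (by decide) (by decide) rfl (a := 0) (b := -1) rfl (by decide +kernel) (by decide) hτ
  have h3 : ∀ j < (Sm2.mkRows rowA rowB).n, j ≠ 35 → j ≠ 36 →
      fixB (Sm2.mkRows rowA rowB) [16, 17, 18, 20] j = true := by decide +kernel
  exact fix_of_chk hE hR (good_two inh (by decide +kernel) hτ) hj (h3 j hj h1 h2)

theorem moved : OddMoved Spor.Suz := by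
  have := finite_Suz
  obtain ⟨χ, hE, -⟩ := tab
  have hj : 41 < (Sm2.mkRows rowA rowB).n := by decide +kernel
  have hd : (Sm2.mkRows rowA rowB).d 41 = 93555 := by decide +kernel
  refine ⟨χ 41, hE.irr _ hj, by rw [hE.charDegree_eq hj, hd]; decide, fun σ hσ => ?_⟩
  obtain ⟨g, hg⟩ := inh 16 (by decide)
  have h1 : fam g = 16 := by rw [← sw_sw (fam g), ← td_ty, hg]; rfl
  refine not_fix_sig (hE.irr _ hj) (d := 93555) (p := 13) (c := 13) (by rw [hE.deg _ hj, hd]) (by norm_num)
    (by decide) (by decide +kernel) (g := g) (by rw [td.ord, hg]; rfl) ?_ (fun x hx => ?_) hσ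
  · have h2 := TID.Suz.cent_mul g
    rw [h1, show SZ.getD 16 0 = 68976230400 from rfl] at h2
    omega
  · have h2 : -4 < x := by by_contra h; push_cast at hx; nlinarith
    have h3 : x < 4 := by by_contra h; push_cast at hx; nlinarith
    push_cast
    omega

theorem sig : OddMoved Spor.Suz ∧ OddSigAut Spor.Suz :=
  haveI := finite_Suz
  ⟨moved, oddSigAut_of_hom div_chk hom⟩

end Cfsg.Agent.TAB.Suz
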